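import Groth.Prelude.Def_AlgEqCyc
import Mathlib

/-!
Points of a closed subset with finite trace on a fibre of a morphism locally of finite type;
positivity of the fibre multiplicity at such a point.
-/

set_option autoImplicit false
set_option linter.style.haveILetI false
universe u

open CategoryTheory AlgebraicGeometry

namespace Groth.Agent.FibCyc4

variable {P W : Scheme.{u}} (π : P ⟶ W) [LocallyOfFiniteType π]

/-- In a closed subset meeting a fibre in a finite set there are no proper specialisations inside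
that fibre. -/
theorem eq_of_specializes {Z : Set P} (hZ : IsClosed Z) (w : W) (hfin : (Z ∩ π ⁻¹' {w}).Finite) {a b : P}
    (ha : a ∈ Z) (hπa : π a = w) (hπb : π b = w) (h : a ⤳ b) : a = b := by
  haveI : JacobsonSpace ↥(π.fiber w) := haveI : LocallyOfFiniteType (π.fiberToSpecResidueField w) := MorphismProperty.pullback_snd _ _ inferInstance
    LocallyOfFiniteType.jacobsonSpace (π.fiberToSpecResidueField w)
  let Z' : Set ↥(π.fiber w) := (π.fiberι w) ⁻¹' Z
  have hι : Topology.IsEmbedding (π.fiberι w) := (π.fiberι w).isEmbedding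
  have hr : Set.range (π.fiberι w) = π ⁻¹' {w} := π.range_fiberι w
  have hZ'c : IsClosed Z' := hZ.preimage (π.fiberι w).continuous
  haveI : Finite Z' := by
    apply Set.Finite.to_subtype
    refine Set.Finite.of_finite_image (f := (π.fiberι w)) (hfin.subset ?_) hι.injective.injOn
    rintro _ ⟨z, hz, rfl⟩
    exact ⟨hz, hr.le (Set.mem_range_self z)⟩
  haveI : JacobsonSpace Z' := JacobsonSpace.of_isClosedEmbedding hZ'c.isClosedEmbedding_subtypeVal
  obtain ⟨a', rfl⟩ : a ∈ Set.range (π.fiberι w) := hr ▸ hπa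
  obtain ⟨b', rfl⟩ : b ∈ Set.range (π.fiberι w) := hr ▸ hπb
  have hb : b' ∈ Z' := h.mem_closed hZ ha
  have h' : (⟨a', ha⟩ : Z') ⤳ ⟨b', hb⟩ :=
    (subtype_specializes_iff _ _).mpr (hι.isInducing.specializes_iff.mp h)
  exact congrArg (π.fiberι w) (congrArg Subtype.val h'.eq)

/-- The multiplicity of a fibre along a closed point of the finite trace is positive. -/
theorem fibreMult_pos [IsLocallyNoetherian P] {v ξ : P} (h : ξ ⤳ v)
    (hfin : (closure {ξ} ∩ π ⁻¹' {π v}).Finite) : 0 < AlgEqCyc.fibreMult π v ξ h := by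
  let O := P.presheaf.stalk v
  let K := RingHom.ker (Cyc.specMap v ξ h)
  let ψ : W.presheaf.stalk (π v) →+* O := (π.stalkMap v).hom
  let J := (IsLocalRing.maximalIdeal (W.presheaf.stalk (π v))).map ((Ideal.Quotient.mk K).comp ψ)
  let φ : O →+* Cyc.LocQuot v ξ h ⧸ J := (Ideal.Quotient.mk J).comp (Ideal.Quotient.mk K)
  have hφ : Function.Surjective φ := Ideal.Quotient.mk_surjective.comp Ideal.Quotient.mk_surjective
  have hKle : K ≤ IsLocalRing.maximalIdeal O := IsLocalRing.le_maximalIdeal (RingHom.ker_ne_top _)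
  have hJle : J ≤ (IsLocalRing.maximalIdeal O).map (Ideal.Quotient.mk K) := by
    show (IsLocalRing.maximalIdeal _).map ((Ideal.Quotient.mk K).comp ψ) ≤ _
    rw [← Ideal.map_map]
    refine Ideal.map_mono ?_
    rw [Ideal.map_le_iff_le_comap]
    intro x hx
    exact fun hu => hx (isUnit_of_map_unit ψ x hu)
  haveI : Nontrivial (Cyc.LocQuot v ξ h ⧸ J) := by
    refine Ideal.Quotient.nontrivial_iff.mpr fun htop => ?_
    rw [htop, top_le_iff, Ideal.eq_top_iff_one, ← map_one (Ideal.Quotient.mk K), Ideal.mem_quotient_iff_mem_sup, sup_eq_left.mpr hKle] at hJle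
    exact (IsLocalRing.maximalIdeal.isMaximal O).ne_top ((Ideal.eq_top_iff_one _).mpr hJle)
  haveI : IsNoetherianRing (Cyc.LocQuot v ξ h ⧸ J) := isNoetherianRing_of_surjective O _ φ hφ
  haveI : Ring.KrullDimLE 0 (Cyc.LocQuot v ξ h ⧸ J) := by
    refine Ring.KrullDimLE.mk₀ fun q hq => ?_
    have hq' : (q.comap φ).IsPrime := Ideal.IsPrime.comap φ
    have hKq : K ≤ q.comap φ := fun x hx => by
      show φ x ∈ q
      rw [show φ x = Ideal.Quotient.mk J (Ideal.Quotient.mk K x) from rfl, Ideal.Quotient.eq_zero_iff_mem.mpr hx, map_zero]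
      exact q.zero_mem
    have hmq : IsLocalRing.maximalIdeal (W.presheaf.stalk (π v)) ≤ (q.comap φ).comap ψ := fun x hx => by
      show φ (ψ x) ∈ q
      rw [show φ (ψ x) = Ideal.Quotient.mk J (((Ideal.Quotient.mk K).comp ψ) x) from rfl,
        Ideal.Quotient.eq_zero_iff_mem.mpr (Ideal.mem_map_of_mem _ hx)]
      exact q.zero_mem
    let Q : Spec (P.presheaf.stalk v) := ⟨q.comap φ, hq'⟩
    let z := P.fromSpecStalk v Q
    have hzv : z ⤳ v := by
      have := (IsLocalRing.specializes_closedPoint (R := O) Q).map (P.fromSpecStalk v).continuous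
      exact Scheme.fromSpecStalk_closedPoint (X := P) (x := v) ▸ this
    have hξz : ξ ⤳ z := by
      let K' : Spec (P.presheaf.stalk v) := ⟨K, RingHom.ker_isPrime _⟩
      have hK' : P.fromSpecStalk v K' = ξ := by
        have e : Spec.map (CommRingCat.ofHom (Cyc.specMap v ξ h)) ≫ P.fromSpecStalk v = P.fromSpecResidueField ξ := by
          show Spec.map (P.presheaf.stalkSpecializes h ≫ P.residue ξ) ≫ _ = _
          rw [Spec.map_comp, Category.assoc, Scheme.SpecMap_stalkSpecializes_fromSpecStalk]
          rfl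
        have hcl := congrArg (fun f : Spec (P.residueField ξ) ⟶ P => f (IsLocalRing.closedPoint (P.residueField ξ))) e
        simp only [Scheme.Hom.comp_apply, Scheme.fromSpecResidueField_apply] at hcl
        rw [← hcl]
        congr 1
        refine PrimeSpectrum.ext ?_
        show K = Ideal.comap (Cyc.specMap v ξ h) (IsLocalRing.maximalIdeal _)
        rw [IsLocalRing.maximalIdeal_eq_bot]
        rfl
      exact hK' ▸ (((PrimeSpectrum.le_iff_specializes K' Q).mp hKq).map (P.fromSpecStalk v).continuous)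
    have hπz : π z = π v := by
      have e := congrArg (fun f : Spec (P.presheaf.stalk v) ⟶ W => f Q)
        (Scheme.SpecMap_stalkMap_fromSpecStalk π (x := v))
      simp only [Scheme.Hom.comp_apply] at e
      refine e.symm.trans (Eq.trans (congrArg (W.fromSpecStalk (π v)) ?_)
        (Scheme.fromSpecStalk_closedPoint (X := W) (x := π v)))
      refine PrimeSpectrum.ext ?_
      exact ((IsLocalRing.maximalIdeal.isMaximal _).eq_of_le (Ideal.IsPrime.comap ψ).ne_top hmq).symm
    have hz : z = v := eq_of_specializes π isClosed_closure (π v) hfin hξz.mem_closure hπz rfl hzv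
    have hQ : Q = IsLocalRing.closedPoint O :=
      (P.fromSpecStalk v).isEmbedding.injective (hz.trans Scheme.fromSpecStalk_closedPoint.symm)
    have hmax : (q.comap φ).IsMaximal := by
      rw [show q.comap φ = IsLocalRing.maximalIdeal O from congrArg PrimeSpectrum.asIdeal hQ]
      exact IsLocalRing.maximalIdeal.isMaximal O
    rw [← Ideal.map_comap_of_surjective φ hφ q]
    exact (Ideal.map_eq_top_or_isMaximal_of_surjective φ hφ hmax).resolve_left fun ht =>
      hq.ne_top (by rw [← Ideal.map_comap_of_surjective φ hφ q, ht])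
  haveI : IsArtinianRing (Cyc.LocQuot v ξ h ⧸ J) := isArtinianRing_iff_krullDimLE_zero.mpr inferInstance
  have hlen : Module.length O (Cyc.LocQuot v ξ h ⧸ J) =
      Module.length (Cyc.LocQuot v ξ h ⧸ J) (Cyc.LocQuot v ξ h ⧸ J) :=
    Module.length_eq_of_surjective (R := Cyc.LocQuot v ξ h ⧸ J) (S := O) hφ
  show 0 < (Module.length O (Cyc.LocQuot v ξ h ⧸ J)).toNat
  rw [hlen, Nat.pos_iff_ne_zero, ne_eq, ENat.toNat_eq_zero, not_or]
  exact ⟨Module.length_pos.ne', Module.length_ne_top⟩

end Groth.Agent.FibCyc4
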